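import Cfsg.Agent.H489.DixonPerm

/-!
# Permutation groups of odd order (helper704, for S4247)

A solvable permutation group of odd order and degree `n ≥ 1` has order at most `3 ^ ((n - 1) / 2)`.
`card_sq_le`: `|G| ^ 2 ≤ 3 ^ (n - 1)`.
-/

set_option autoImplicit false

namespace Cfsg.Agent.H704.DPi

open Subgroup Cfsg.Agent.H489

universe u

/-- A normal abelian transitive subgroup: the stabiliser embeds in its automorphism group. -/
theorem card_dvd_of_transitive {Ω : Type u} [Finite Ω] (G : Subgroup (Equiv.Perm Ω)) (N : Subgroup G)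
    (hN : N.Normal) (α : Ω) (htrans : ∀ β : Ω, ∃ n ∈ N, (n : Equiv.Perm Ω) α = β) :
    ∃ m : ℕ, Nat.card G = Nat.card Ω * m ∧ m ∣ Nat.card (MulAut N) := by
  classical
  have hfin : Finite (Equiv.Perm Ω) := inferInstance
  have htr : MulAction.orbit G α = Set.univ := by
    ext β
    simp only [Set.mem_univ, iff_true]
    obtain ⟨n, hn, rfl⟩ := htrans β
    exact ⟨n, rfl⟩
  refine ⟨Nat.card (MulAction.stabilizer G α), ?_, ?_⟩
  · rw [← Subgroup.index_mul_card (MulAction.stabilizer G α), MulAction.index_stabilizer, htr, Set.ncard_univ]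
  · let φ : MulAction.stabilizer G α →* MulAut N :=
      (MulAut.conjNormal : G →* MulAut N).comp (MulAction.stabilizer G α).subtype
    have hφ : Function.Injective φ := by
      rw [injective_iff_map_eq_one]
      rintro ⟨g, hg⟩ hk
      have h2 : (MulAut.conjNormal g : MulAut N) = 1 := hk
      have h3 : ∀ n ∈ N, g * n * g⁻¹ = n := by
        intro n hn
        have h4 := congrArg (fun f : MulAut N => ((f ⟨n, hn⟩ : N) : G)) h2
        exact h4
      apply Subtype.ext
      apply Subtype.ext
      apply Equiv.ext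
      intro β
      obtain ⟨n, hn, rfl⟩ := htrans β
      have h5 : g * n = n * g := by
        have := h3 n hn
        rw [mul_inv_eq_iff_eq_mul] at this
        exact this
      have h6 : (g : Equiv.Perm Ω) ((n : Equiv.Perm Ω) α) = ((g * n : G) : Equiv.Perm Ω) α := rfl
      have h7 : (g : Equiv.Perm Ω) α = α := hg
      show (g : Equiv.Perm Ω) ((n : Equiv.Perm Ω) α) = (n : Equiv.Perm Ω) α
      rw [h6, h5]
      show (n : Equiv.Perm Ω) ((g : Equiv.Perm Ω) α) = _
      rw [h7]
    have h1 : Nat.card (MulAction.stabilizer G α) = Nat.card φ.range :=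
      Nat.card_congr (MonoidHom.ofInjective hφ).toEquiv
    rw [h1]
    exact Subgroup.card_subgroup_dvd_card _

/-- Numerical bound, `p ≥ 11`. -/
theorem num_eleven (p : ℕ) (hp : 11 ≤ p) : p ^ 4 ≤ 3 ^ (p - 1) := by
  induction p, hp using Nat.le_induction with
  | base => norm_num
  | succ k hk ih =>
    have h1 : (k + 1) ^ 4 ≤ 3 * k ^ 4 := by
      have h2 : 11 * (k + 1) ≤ 12 * k := by omega
      have h3 : (11 * (k + 1)) ^ 4 ≤ (12 * k) ^ 4 := Nat.pow_le_pow_left h2 4
      rw [mul_pow, mul_pow] at h3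
      norm_num at h3
      omega
    have h4 : k + 1 - 1 = (k - 1) + 1 := by omega
    calc (k + 1) ^ 4 ≤ 3 * k ^ 4 := h1
      _ ≤ 3 * 3 ^ (k - 1) := Nat.mul_le_mul_left _ ih
      _ = 3 ^ (k + 1 - 1) := by rw [h4, pow_succ, mul_comm]

/-- Numerical bound: induction on the dimension. -/
theorem num_step' (p d₀ : ℕ) (hp : 2 ≤ p) (h0 : p ^ (2 * (d₀ * (d₀ + 1))) ≤ 3 ^ (p ^ d₀ - 1))
    (h1 : ∀ d, d₀ ≤ d → p ^ (4 * (d + 1)) ≤ 3 ^ (p ^ (d + 1) - p ^ d)) (d : ℕ) (hd : d₀ ≤ d) :
    p ^ (2 * (d * (d + 1))) ≤ 3 ^ (p ^ d - 1) := by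
  induction d, hd using Nat.le_induction with
  | base => exact h0
  | succ d hd ih =>
    have h2 : 2 * ((d + 1) * (d + 1 + 1)) = 2 * (d * (d + 1)) + 4 * (d + 1) := by ring
    have h3 : p ^ d ≤ p ^ (d + 1) := Nat.pow_le_pow_right (by omega) (by omega)
    have h4 : 1 ≤ p ^ d := Nat.one_le_pow _ _ (by omega)
    have h5 : p ^ (d + 1) - 1 = (p ^ d - 1) + (p ^ (d + 1) - p ^ d) := by omega
    rw [h2, pow_add, h5, pow_add]
    exact Nat.mul_le_mul ih (h1 d hd)

/-- odd divisors -/
theorem odd_dvd_le {m n k b : ℕ} (h : m ∣ n) (ho : Odd m) (hn : n = 2 ^ k * b) : m ∣ b := by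
  rw [hn] at h
  exact (Nat.Coprime.pow_right k (Nat.coprime_two_right.2 ho)).dvd_of_dvd_mul_left h

theorem num_bound' (p d m : ℕ) (hp : p.Prime) (hp2 : p ≠ 2) (hd : 0 < d)
    (hm : m ∣ ∏ i : Fin d, (p ^ d - p ^ (i : ℕ))) (hmo : Odd m) :
    (p ^ d * m) ^ 2 ≤ 3 ^ (p ^ d - 1) := by
  have hp1 := hp.two_le
  have hpos : 0 < ∏ i : Fin d, (p ^ d - p ^ (i : ℕ)) := by
    apply Finset.prod_pos
    intro i _
    have := Nat.pow_lt_pow_right (show 1 < p by omega) i.2
    omega
  have hcrude : (p ^ d * m) ^ 2 ≤ p ^ (2 * (d * (d + 1))) := by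
    have h0 := Nat.le_of_dvd hpos hm
    have h1 : ∏ i : Fin d, (p ^ d - p ^ (i : ℕ)) ≤ (p ^ d) ^ d := by
      calc ∏ i : Fin d, (p ^ d - p ^ (i : ℕ)) ≤ ∏ _i : Fin d, p ^ d :=
            Finset.prod_le_prod' (fun i _ => Nat.sub_le _ _)
        _ = (p ^ d) ^ d := by rw [Finset.prod_const, Finset.card_univ, Fintype.card_fin]
    calc (p ^ d * m) ^ 2 ≤ (p ^ d * (p ^ d) ^ d) ^ 2 :=
          Nat.pow_le_pow_left (Nat.mul_le_mul_left _ (h0.trans h1)) 2
      _ = p ^ (2 * (d * (d + 1))) := by ring
  rcases Nat.lt_or_ge p 11 with hp5 | hp5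
  · have hc : p = 3 ∨ p = 5 ∨ p = 7 := by
      interval_cases p <;> first | omega | (exfalso; revert hp; norm_num)
    rcases hc with rfl | rfl | rfl
    · -- p = 3
      rcases Nat.lt_or_ge d 3 with hd3 | hd3
      · interval_cases d
        · have h1 : m ∣ 1 := odd_dvd_le (k := 1) hm hmo (by norm_num)
          rw [Nat.dvd_one.1 h1]; norm_num
        · have h1 : m ∣ 3 := odd_dvd_le (k := 4) hm hmo (by norm_num [Fin.prod_univ_succ])
          have h2 := Nat.le_of_dvd (by norm_num) h1
          calc (3 ^ 2 * m) ^ 2 ≤ (3 ^ 2 * 3) ^ 2 := Nat.pow_le_pow_left (Nat.mul_le_mul_left _ h2) 2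
            _ ≤ 3 ^ (3 ^ 2 - 1) := by norm_num
      · refine hcrude.trans (num_step' 3 3 (by norm_num) (by norm_num) ?_ d hd3)
        intro e he
        have h1 : 3 ^ (e + 1) - 3 ^ e = 2 * 3 ^ e := by rw [pow_succ]; omega
        have h2 : 2 * (e + 1) ≤ 3 ^ e := by
          clear h1
          induction e, he using Nat.le_induction with
          | base => norm_num
          | succ k hk ih =>
            rw [pow_succ]; omega
        rw [h1]
        exact Nat.pow_le_pow_right (by norm_num) (by omega)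
    · -- p = 5
      rcases Nat.lt_or_ge d 2 with hd3 | hd3
      · interval_cases d
        have h1 : m ∣ 1 := odd_dvd_le (k := 2) hm hmo (by norm_num)
        rw [Nat.dvd_one.1 h1]; norm_num
      · refine hcrude.trans (num_step' 5 2 (by norm_num) (by norm_num) ?_ d hd3)
        intro e he
        have h1 : 5 ^ (e + 1) - 5 ^ e = 4 * 5 ^ e := by rw [pow_succ]; omega
        have h2 : 2 * (e + 1) ≤ 5 ^ e := by
          clear h1
          induction e, he using Nat.le_induction with
          | base => norm_num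
          | succ k hk ih =>
            rw [pow_succ]; omega
        rw [h1]
        calc 5 ^ (4 * (e + 1)) = 625 ^ (e + 1) := by rw [pow_mul]; norm_num
          _ ≤ (3 ^ 6) ^ (e + 1) := Nat.pow_le_pow_left (by norm_num) _
          _ = 3 ^ (6 * (e + 1)) := by rw [← pow_mul]
          _ ≤ 3 ^ (4 * 5 ^ e) := Nat.pow_le_pow_right (by norm_num) (by omega)
    · -- p = 7
      rcases Nat.lt_or_ge d 2 with hd3 | hd3
      · interval_cases d
        have h1 : m ∣ 3 := odd_dvd_le (k := 1) hm hmo (by norm_num)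
        have h2 := Nat.le_of_dvd (by norm_num) h1
        calc (7 ^ 1 * m) ^ 2 ≤ (7 ^ 1 * 3) ^ 2 := Nat.pow_le_pow_left (Nat.mul_le_mul_left _ h2) 2
          _ ≤ 3 ^ (7 ^ 1 - 1) := by norm_num
      · refine hcrude.trans (num_step' 7 2 (by norm_num) (by norm_num) ?_ d hd3)
        intro e he
        have h1 : 7 ^ (e + 1) - 7 ^ e = 6 * 7 ^ e := by rw [pow_succ]; omega
        have h2 : 2 * (e + 1) ≤ 7 ^ e := by
          clear h1
          induction e, he using Nat.le_induction with
          | base => norm_num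
          | succ k hk ih =>
            rw [pow_succ]; omega
        rw [h1]
        calc 7 ^ (4 * (e + 1)) = 2401 ^ (e + 1) := by rw [pow_mul]; norm_num
          _ ≤ (3 ^ 8) ^ (e + 1) := Nat.pow_le_pow_left (by norm_num) _
          _ = 3 ^ (8 * (e + 1)) := by rw [← pow_mul]
          _ ≤ 3 ^ (6 * 7 ^ e) := Nat.pow_le_pow_right (by norm_num) (by omega)
  · refine hcrude.trans (num_step' p 1 (by omega) ?_ ?_ d hd)
    · have := num_eleven p hp5
      simpa using this
    · intro e he
      have h1 : p ^ (e + 1) - p ^ e = (p - 1) * p ^ e := by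
        rw [pow_succ', Nat.sub_mul, one_mul]
      have h2 : e + 1 ≤ p ^ e := by
        have := Nat.lt_pow_self (n := e) (show 1 < p by omega)
        omega
      rw [h1, pow_mul]
      calc (p ^ 4) ^ (e + 1) ≤ (3 ^ (p - 1)) ^ (e + 1) := Nat.pow_le_pow_left (num_eleven p hp5) _
        _ = 3 ^ ((p - 1) * (e + 1)) := by rw [← pow_mul]
        _ ≤ 3 ^ ((p - 1) * p ^ e) := Nat.pow_le_pow_right (by norm_num) (Nat.mul_le_mul_left _ h2)

/-- **Odd order.** -/
theorem card_sq_le (n : ℕ) : ∀ (Ω : Type u) [Finite Ω] (G : Subgroup (Equiv.Perm Ω)),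
    Group.IsSolvable G → Odd (Nat.card G) → Nat.card Ω = n → 0 < n → Nat.card G ^ 2 ≤ 3 ^ (n - 1) := by
  classical
  induction n using Nat.strong_induction_on with
  | _ n ih =>
  intro Ω _ G hG hodd hΩ hn
  rcases subsingleton_or_nontrivial G with hsub | hnt
  · have h1 : Nat.card G = 1 := Nat.card_unique
    rw [h1, one_pow]
    exact Nat.one_le_pow _ _ (by norm_num)
  have := hG
  obtain ⟨p, N, hp, hNn, hN0, hNc, hNp⟩ := Cfsg.Agent.Solvable.HallAux.exists_normal_elementary (G := G)
  have hcomm : ∀ a ∈ N, ∀ b ∈ N, a * b = b * a := by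
    intro a ha b hb
    have := hNc.1.1 ⟨a, ha⟩ ⟨b, hb⟩
    exact congrArg Subtype.val this
  -- the orbit relation of `N`
  let r : Setoid Ω :=
    { r := fun x y => ∃ k ∈ N, (k : Equiv.Perm Ω) x = y
      iseqv :=
        { refl := fun x => ⟨1, N.one_mem, rfl⟩
          symm := by
            rintro x y ⟨k, hk, rfl⟩
            exact ⟨k⁻¹, N.inv_mem hk, by simp⟩
          trans := by
            rintro x y z ⟨k, hk, rfl⟩ ⟨l, hl, rfl⟩
            exact ⟨l * k, N.mul_mem hl hk, rfl⟩ } }
  have hr : ∀ x y, (Quotient.mk r x = Quotient.mk r y) ↔ ∃ k ∈ N, (k : Equiv.Perm Ω) x = y := by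
    intro x y
    rw [Quotient.eq]
    rfl
  have hfinQ : Finite (Quotient r) := inferInstance
  have : Fintype (Quotient r) := Fintype.ofFinite _
  have hsurj : Function.Surjective (Quotient.mk r) := Quotient.mk_surjective
  have hne : Nonempty Ω := by
    rw [← Finite.card_pos_iff, hΩ]; exact hn
  rcases subsingleton_or_nontrivial (Quotient r) with hQ | hQ
  · -- `N` is transitive
    obtain ⟨α⟩ := hne
    have htrans : ∀ β : Ω, ∃ k ∈ N, (k : Equiv.Perm Ω) α = β := fun β =>
      (hr α β).mp (Subsingleton.elim _ _)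
    have hbij : Function.Bijective (fun k : N => ((k : G) : Equiv.Perm Ω) α) := by
      constructor
      · intro k l hkl
        have hkl' : ((k : G) : Equiv.Perm Ω) α = ((l : G) : Equiv.Perm Ω) α := hkl
        apply Subtype.ext
        apply Subtype.ext
        apply Equiv.ext
        intro β
        obtain ⟨m, hm, rfl⟩ := htrans β
        have h1 : ∀ j : N, ((j : G) : Equiv.Perm Ω) ((m : Equiv.Perm Ω) α)
            = (m : Equiv.Perm Ω) (((j : G) : Equiv.Perm Ω) α) := by
          intro j
          have h2 := congrArg (fun f : G => (f : Equiv.Perm Ω) α) (hcomm j j.2 m hm)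
          exact h2
        rw [h1, h1, hkl']
      · intro β
        obtain ⟨k, hk, hkβ⟩ := htrans β
        exact ⟨⟨k, hk⟩, hkβ⟩
    have hcardN : Nat.card N = n := by rw [← hΩ]; exact Nat.card_congr (Equiv.ofBijective _ hbij)
    have : Fact p.Prime := ⟨hp⟩
    obtain ⟨d, hd⟩ : ∃ d, Nat.card N = p ^ d := by
      have hpg : IsPGroup p N := fun x => ⟨1, by
        rw [pow_one]
        apply Subtype.ext
        exact hNp x x.2⟩
      exact hpg.exists_card_eq
    have hd0 : 0 < d := by
      rcases Nat.eq_zero_or_pos d with rfl | h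
      · rw [pow_zero] at hd
        exact absurd (Subgroup.card_eq_one.mp hd) hN0
      · exact h
    obtain ⟨m, h1, h3⟩ := card_dvd_of_transitive G N hNn α htrans
    rw [Cfsg.Agent.Transfer.ElemAbAut.card_mulAut p d
      (fun x y => hNc.1.1 x y) (fun x => Subtype.ext (hNp x x.2)) hd] at h3
    have h2 : n = p ^ d := by rw [← hcardN, hd]
    rw [hΩ, h2] at h1
    rw [h1] at hodd ⊢
    rw [h2]
    have hp2 : p ≠ 2 := by
      rintro rfl
      rw [Nat.odd_mul] at hodd
      have := hodd.1
      rw [Nat.odd_iff] at this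
      have h4 : 2 ∣ 2 ^ d := dvd_pow_self 2 (by omega)
      omega
    exact num_bound' p d m hp hp2 hd0 h3 (Nat.odd_mul.1 hodd).2
  · -- `N` is intransitive
    obtain ⟨ψ, φ, hle⟩ := card_le_of_partition G (Quotient.mk r) hsurj (by
      intro g hg x y hxy
      rw [hr] at hxy ⊢
      obtain ⟨k, hk, rfl⟩ := hxy
      refine ⟨⟨g, hg⟩ * k * ⟨g, hg⟩⁻¹, hNn.conj_mem k hk _, ?_⟩
      show g (((k : G) : Equiv.Perm Ω) (g⁻¹ (g x))) = _
      simp)
    have hQcard : 1 < Nat.card (Quotient r) := Finite.one_lt_card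
    -- sizes
    have hsum : n = ∑ q : Quotient r, Nat.card {x // Quotient.mk r x = q} := by
      rw [← hΩ, ← Nat.card_sigma]
      exact Nat.card_congr (Equiv.sigmaFiberEquiv _).symm
    have hpos : ∀ q : Quotient r, 0 < Nat.card {x // Quotient.mk r x = q} := by
      intro q
      obtain ⟨x, hx⟩ := hsurj q
      have : Nonempty {x // Quotient.mk r x = q} := ⟨⟨x, hx⟩⟩
      exact Nat.card_pos
    have hfib : ∀ q : Quotient r, Nat.card {x // Quotient.mk r x = q} < n := by
      intro q
      obtain ⟨q', hq'⟩ := exists_ne q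
      rw [hsum, ← Finset.add_sum_erase _ _ (Finset.mem_univ q)]
      have h1 : Nat.card {x // Quotient.mk r x = q'} ≤
          ∑ x ∈ Finset.univ.erase q, Nat.card {y // Quotient.mk r y = x} :=
        Finset.single_le_sum (f := fun x => Nat.card {y // Quotient.mk r y = x}) (fun _ _ => Nat.zero_le _)
          (Finset.mem_erase.mpr ⟨hq', Finset.mem_univ _⟩)
      have h2 := hpos q'
      omega
    have hQlt : Nat.card (Quotient r) < n := by
      rw [← hΩ]
      by_contra hge
      have hcard : Nat.card (Quotient r) = Nat.card Ω :=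
        le_antisymm (Nat.card_le_card_of_surjective _ hsurj) (by omega)
      have hinj : Function.Injective (Quotient.mk r) := by
        have := (Nat.bijective_iff_surjective_and_card (Quotient.mk r)).mpr ⟨hsurj, hcard.symm⟩
        exact this.injective
      apply hN0
      rw [eq_bot_iff]
      intro k hk
      rw [Subgroup.mem_bot]
      apply Subtype.ext
      apply Equiv.ext
      intro x
      exact (hinj ((hr x _).mpr ⟨k, hk, rfl⟩)).symm
    have hψ : Nat.card ψ.range ^ 2 ≤ 3 ^ (Nat.card (Quotient r) - 1) := by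
      have hsol : Group.IsSolvable ψ.range :=
        Group.isSolvable_of_surjective (MonoidHom.rangeRestrict_surjective ψ)
      exact ih _ hQlt (Quotient r) ψ.range hsol (hodd.of_dvd_nat (Subgroup.card_range_dvd ψ)) rfl (by omega)
    have hφ : ∀ q, Nat.card (φ q).range ^ 2 ≤ 3 ^ (Nat.card {x // Quotient.mk r x = q} - 1) := by
      intro q
      have hsol : Group.IsSolvable (φ q).range :=
        Group.isSolvable_of_surjective (MonoidHom.rangeRestrict_surjective (φ q))
      exact ih _ (hfib q) {x // Quotient.mk r x = q} (φ q).range hsol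
        (hodd.of_dvd_nat ((Subgroup.card_range_dvd (φ q)).trans (Subgroup.card_subgroup_dvd_card ψ.ker))) rfl (hpos q)
    calc Nat.card G ^ 2 ≤ (Nat.card ψ.range * ∏ q, Nat.card (φ q).range) ^ 2 :=
          Nat.pow_le_pow_left hle 2
      _ = Nat.card ψ.range ^ 2 * ∏ q, Nat.card (φ q).range ^ 2 := by
          rw [mul_pow, Finset.prod_pow]
      _ ≤ 3 ^ (Nat.card (Quotient r) - 1) * ∏ q, 3 ^ (Nat.card {x // Quotient.mk r x = q} - 1) :=
          Nat.mul_le_mul hψ (Finset.prod_le_prod' (fun q _ => hφ q))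
      _ = 3 ^ ((Nat.card (Quotient r) - 1) + ∑ q, (Nat.card {x // Quotient.mk r x = q} - 1)) := by
          rw [Finset.prod_pow_eq_pow_sum, ← pow_add]
      _ = 3 ^ (n - 1) := by
          congr 1
          have h1 : ∑ q : Quotient r, (Nat.card {x // Quotient.mk r x = q} - 1) + Nat.card (Quotient r)
              = ∑ q : Quotient r, Nat.card {x // Quotient.mk r x = q} := by
            have h2 : Nat.card (Quotient r) = ∑ _q : Quotient r, 1 := by
              rw [Finset.sum_const, Finset.card_univ, smul_eq_mul, mul_one, Nat.card_eq_fintype_card]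
            rw [h2, ← Finset.sum_add_distrib]
            apply Finset.sum_congr rfl
            intro q _
            have := hpos q
            omega
          omega

end Cfsg.Agent.H704.DPi
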